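import Mathlib

/-!
# The second exterior power of `4 × 4` matrices (Klein correspondence), in coordinates

For a `4 × 4` matrix `g`, `P g` is the `6 × 6` matrix of `2 × 2` minors of `g`, in the basis
`e₀₁, e₀₂, e₀₃, e₁₂, e₁₃, e₂₃`. It is multiplicative, and scales the Pfaffian
`x₀ x₅ - x₁ x₄ + x₂ x₃` by `det g`.
-/

set_option autoImplicit false

namespace Cfsg.Agent.Lib.Classical.LowOmega.Klein

open Matrix

variable {K : Type*} [CommRing K]

/-- The indices of the second exterior power. -/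
def idx (a : Fin 6) : Fin 4 × Fin 4 :=
  ![(0, 1), (0, 2), (0, 3), (1, 2), (1, 3), (2, 3)] a

/-- The matrix of `2 × 2` minors. -/
def P (g : Matrix (Fin 4) (Fin 4) K) : Matrix (Fin 6) (Fin 6) K :=
  Matrix.of fun a b =>
    g (idx a).1 (idx b).1 * g (idx a).2 (idx b).2 - g (idx a).1 (idx b).2 * g (idx a).2 (idx b).1

/-- The Pfaffian. -/
def pf (x : Fin 6 → K) : K := x 0 * x 5 - x 1 * x 4 + x 2 * x 3

/-- The Hodge star in coordinates. -/
def star6 (x : Fin 6 → K) : Fin 6 → K := ![x 5, -x 4, x 3, x 2, -x 1, x 0]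

theorem P_apply (g : Matrix (Fin 4) (Fin 4) K) (a b : Fin 6) :
    P g a b = g (idx a).1 (idx b).1 * g (idx a).2 (idx b).2
      - g (idx a).1 (idx b).2 * g (idx a).2 (idx b).1 := rfl

theorem P_one : P (1 : Matrix (Fin 4) (Fin 4) K) = 1 := by
  ext a b
  fin_cases a <;> fin_cases b <;> simp [P, idx, Matrix.one_apply]

theorem P_mul (g h : Matrix (Fin 4) (Fin 4) K) : P (g * h) = P g * P h := by
  ext a b
  rw [Matrix.mul_apply, Fin.sum_univ_six]
  simp only [P_apply, Matrix.mul_apply, Fin.sum_univ_four]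
  fin_cases a <;> fin_cases b <;> simp only [idx] <;> simp <;> ring

theorem P_transpose (g : Matrix (Fin 4) (Fin 4) K) : P gᵀ = (P g)ᵀ := by
  ext a b
  simp only [P_apply, Matrix.transpose_apply]
  ring

theorem det_four (g : Matrix (Fin 4) (Fin 4) K) :
    g.det = g 0 0 * (g 1 1 * (g 2 2 * g 3 3 - g 2 3 * g 3 2) - g 1 2 * (g 2 1 * g 3 3 - g 2 3 * g 3 1)
        + g 1 3 * (g 2 1 * g 3 2 - g 2 2 * g 3 1))
      - g 0 1 * (g 1 0 * (g 2 2 * g 3 3 - g 2 3 * g 3 2) - g 1 2 * (g 2 0 * g 3 3 - g 2 3 * g 3 0)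
        + g 1 3 * (g 2 0 * g 3 2 - g 2 2 * g 3 0))
      + g 0 2 * (g 1 0 * (g 2 1 * g 3 3 - g 2 3 * g 3 1) - g 1 1 * (g 2 0 * g 3 3 - g 2 3 * g 3 0)
        + g 1 3 * (g 2 0 * g 3 1 - g 2 1 * g 3 0))
      - g 0 3 * (g 1 0 * (g 2 1 * g 3 2 - g 2 2 * g 3 1) - g 1 1 * (g 2 0 * g 3 2 - g 2 2 * g 3 0)
        + g 1 2 * (g 2 0 * g 3 1 - g 2 1 * g 3 0)) := by
  rw [Matrix.det_succ_row_zero]
  simp only [Fin.sum_univ_four, Matrix.det_fin_three, Matrix.submatrix_apply]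
  simp [Fin.succAbove]
  ring

theorem pf_mulVec (g : Matrix (Fin 4) (Fin 4) K) (x : Fin 6 → K) :
    pf (P g *ᵥ x) = g.det * pf x := by
  rw [det_four]
  simp only [pf, Matrix.mulVec, dotProduct, Fin.sum_univ_six, P_apply]
  simp [idx]
  ring

theorem scalar_of_P_eq_one (g : Matrix (Fin 4) (Fin 4) K) (hg : P g = 1) :
    g 0 1 = 0 ∧ g 0 2 = 0 ∧ g 0 3 = 0 ∧ g 1 0 = 0 ∧ g 1 2 = 0 ∧ g 1 3 = 0 ∧ g 2 0 = 0 ∧ g 2 1 = 0 ∧
      g 2 3 = 0 ∧ g 3 0 = 0 ∧ g 3 1 = 0 ∧ g 3 2 = 0 ∧ g 1 1 = g 0 0 ∧ g 2 2 = g 0 0 ∧ g 3 3 = g 0 0 ∧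
      g 0 0 * g 0 0 = 1 := by
  have h : ∀ a b, P g a b = (1 : Matrix (Fin 6) (Fin 6) K) a b := fun a b => by rw [hg]
  have e00 := h 0 0
  have e01 := h 0 1
  have e02 := h 0 2
  have e03 := h 0 3
  have e04 := h 0 4
  have e05 := h 0 5
  have e10 := h 1 0
  have e11 := h 1 1
  have e12 := h 1 2
  have e13 := h 1 3
  have e14 := h 1 4
  have e15 := h 1 5
  have e20 := h 2 0
  have e21 := h 2 1
  have e22 := h 2 2
  have e23 := h 2 3
  have e24 := h 2 4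
  have e25 := h 2 5
  have e30 := h 3 0
  have e31 := h 3 1
  have e32 := h 3 2
  have e33 := h 3 3
  have e34 := h 3 4
  have e35 := h 3 5
  have e40 := h 4 0
  have e41 := h 4 1
  have e42 := h 4 2
  have e43 := h 4 3
  have e44 := h 4 4
  have e45 := h 4 5
  have e50 := h 5 0
  have e51 := h 5 1
  have e52 := h 5 2
  have e53 := h 5 3
  have e54 := h 5 4
  have e55 := h 5 5
  simp only [P_apply] at e00 e01 e02 e03 e04 e05 e10 e11 e12 e13 e14 e15 e20 e21 e22 e23 e24 e25 e30 e31 e32 e33 e34 e35 e40 e41 e42 e43 e44 e45 e50 e51 e52 e53 e54 e55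
  simp [idx] at e00 e01 e02 e03 e04 e05 e10 e11 e12 e13 e14 e15 e20 e21 e22 e23 e24 e25 e30 e31 e32 e33 e34 e35 e40 e41 e42 e43 e44 e45 e50 e51 e52 e53 e54 e55
  have h01 : g 0 1 = 0 := by linear_combination (1) * g 1 1 * e13 - (1) * g 2 1 * e03 - g 0 1 * e33
  have h02 : g 0 2 = 0 := by linear_combination (-1) * g 2 2 * e03 - (-1) * g 1 2 * e13 - g 0 2 * e33
  have h03 : g 0 3 = 0 := by linear_combination (-1) * g 3 3 * e04 - (-1) * g 1 3 * e24 - g 0 3 * e44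
  have h10 : g 1 0 = 0 := by linear_combination (1) * g 0 0 * e31 - (-1) * g 2 0 * e01 - g 1 0 * e11
  have h12 : g 1 2 = 0 := by linear_combination (1) * g 2 2 * e01 - (-1) * g 0 2 * e31 - g 1 2 * e11
  have h13 : g 1 3 = 0 := by linear_combination (1) * g 3 3 * e02 - (-1) * g 0 3 * e42 - g 1 3 * e22
  have h20 : g 2 0 = 0 := by linear_combination (-1) * g 0 0 * e30 - (-1) * g 1 0 * e10 - g 2 0 * e00
  have h21 : g 2 1 = 0 := by linear_combination (1) * g 1 1 * e10 - (1) * g 0 1 * e30 - g 2 1 * e00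
  have h23 : g 2 3 = 0 := by linear_combination (1) * g 3 3 * e12 - (-1) * g 0 3 * e52 - g 2 3 * e22
  have h30 : g 3 0 = 0 := by linear_combination (-1) * g 0 0 * e40 - (-1) * g 1 0 * e20 - g 3 0 * e00
  have h31 : g 3 1 = 0 := by linear_combination (1) * g 1 1 * e20 - (1) * g 0 1 * e40 - g 3 1 * e00
  have h32 : g 3 2 = 0 := by linear_combination (1) * g 2 2 * e21 - (1) * g 0 2 * e51 - g 3 2 * e11
  simp only [h01, h02, h03, h10, h12, h13, h20, h21, h23, h30, h31, h32, mul_zero, sub_zero] at e00 e11 e22 e33 e44 e55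
  have h11 : g 1 1 = g 0 0 := by linear_combination (g 0 0) * e33 - (g 1 1) * e11
  refine ⟨h01, h02, h03, h10, h12, h13, h20, h21, h23, h30, h31, h32, h11, ?_, ?_, ?_⟩
  · linear_combination (g 0 0) * e33 - (g 2 2) * e00
  · linear_combination (g 0 0) * e44 - (g 3 3) * e00
  · linear_combination e00 - g 0 0 * h11

/-- The Hodge star as a matrix. -/
def S6 (K : Type*) [CommRing K] : Matrix (Fin 6) (Fin 6) K :=
  !![0, 0, 0, 0, 0, 1; 0, 0, 0, 0, -1, 0; 0, 0, 0, 1, 0, 0; 0, 0, 1, 0, 0, 0; 0, -1, 0, 0, 0, 0;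
    1, 0, 0, 0, 0, 0]

theorem P_transpose_S_P (g : Matrix (Fin 4) (Fin 4) K) : (P g)ᵀ * S6 K * P g = g.det • S6 K := by
  rw [det_four]
  ext a b
  rw [Matrix.mul_apply, Fin.sum_univ_six]
  simp only [Matrix.mul_apply, Fin.sum_univ_six, Matrix.transpose_apply, P_apply]
  fin_cases a <;> fin_cases b <;> simp [S6, idx] <;> ring

theorem P_map {L : Type*} [CommRing L] (f : K →+* L) (g : Matrix (Fin 4) (Fin 4) K) :
    P (g.map f) = (P g).map f := by
  ext a b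
  simp [P_apply]

end Cfsg.Agent.Lib.Classical.LowOmega.Klein
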